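import Groth.Prelude.Def_SGA4hB
import Groth.Agent.Desc45.AcyclicClass
import Mathlib.Algebra.Homology.DerivedCategory.KProjective
import Mathlib.Algebra.Category.ModuleCat.Projective
import Mathlib.LinearAlgebra.Matrix.SchurComplement
import Mathlib.LinearAlgebra.FreeModule.Finite.Basic
import Mathlib.RingTheory.TensorProduct.Free
import Mathlib.RingTheory.TensorProduct.Finite
import Mathlib.Data.Int.Interval

/-!
Multiplicativity and homotopy invariance of `det (1 - t u)` on bounded complexes of finite free modules.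
-/

set_option autoImplicit false
set_option linter.style.haveILetI false
universe u

open CategoryTheory CategoryTheory.Limits Polynomial TensorProduct
open CochainComplex.HomComplex CochainComplex

attribute [local instance] HasDerivedCategory.standard

namespace Groth.Agent.EtDet91

section Linear

theorem det_one_sub_comm {R M N : Type*} [CommRing R] [AddCommGroup M] [Module R M] [Module.Finite R M]
    [Module.Free R M] [AddCommGroup N] [Module R N] [Module.Finite R N] [Module.Free R N]
    (f : M →ₗ[R] N) (g : N →ₗ[R] M) :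
    LinearMap.det (LinearMap.id - g ∘ₗ f) = LinearMap.det (LinearMap.id - f ∘ₗ g) := by
  classical
  let b := Module.Free.chooseBasis R M
  let c := Module.Free.chooseBasis R N
  rw [← LinearMap.det_toMatrix b, ← LinearMap.det_toMatrix c, map_sub, map_sub, LinearMap.toMatrix_id,
    LinearMap.toMatrix_id, LinearMap.toMatrix_comp b c b, LinearMap.toMatrix_comp c b c]
  exact Matrix.det_one_sub_mul_comm _ _

theorem det_one_sub_split {R M : Type*} [CommRing R] [AddCommGroup M] [Module R M] [Module.Finite R M]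
    [Module.Free R M] (T E : Module.End R M) (hE : E * E = E) (h : (1 - E) * T * E = 0) :
    LinearMap.det (1 - T) =
      LinearMap.det (1 - E * T * E) * LinearMap.det (1 - (1 - E) * T * (1 - E)) := by
  let F : Module.End R M := 1 - E
  have hEF : E * F = 0 := by simp [F, mul_sub, hE]
  have hFE : F * E = 0 := by simp [F, sub_mul, hE]
  have hN : LinearMap.det (1 - E * T * F) = 1 := by
    have := det_one_sub_comm (T * F) E
    simp only [← Module.End.mul_eq_comp] at this
    rw [← Module.End.one_eq_id, ← mul_assoc, mul_assoc T F E, hFE, mul_zero, sub_zero, map_one] at this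
    exact this
  have hT : T = E * T * E + E * T * F + F * T * F := by
    have : T = (E + F) * T * (E + F) := by simp [F]
    rw [add_mul, add_mul, mul_add, mul_add, show F * T * E = 0 from h, zero_add] at this
    exact this
  have key : (1 - F * T * F) * (1 - E * T * F) * (1 - E * T * E) = 1 - T := by
    have h1 : F * T * F * (E * T * F) = 0 := by
      rw [show F * T * F * (E * T * F) = F * T * (F * E) * T * F by simp only [mul_assoc], hFE]
      simp
    have h2 : E * T * F * (E * T * E) = 0 := by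
      rw [show E * T * F * (E * T * E) = E * T * (F * E) * T * E by simp only [mul_assoc], hFE]
      simp
    have h3 : F * T * F * (E * T * E) = 0 := by
      rw [show F * T * F * (E * T * E) = F * T * (F * E) * T * E by simp only [mul_assoc], hFE]
      simp
    conv_rhs => rw [hT]
    simp only [mul_sub, sub_mul, one_mul, mul_one, h1, h2, h3, mul_assoc _ (E * T * F) (E * T * E), zero_mul,
      mul_zero]
    abel
  rw [← key, map_mul, map_mul, hN, mul_one, mul_comm]

variable {A : Type u} [CommRing A] {M N : Type u} [AddCommGroup M] [Module A M] [Module.Finite A M]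
  [Module.Free A M] [AddCommGroup N] [Module A N] [Module.Finite A N] [Module.Free A N]

/-- `det (1 - t f)`. -/
noncomputable def dt (f : M →ₗ[A] M) : A[X] :=
  LinearMap.det (LinearMap.id - (X : A[X]) • f.baseChange A[X])

theorem dt_comm (f : M →ₗ[A] N) (g : N →ₗ[A] M) : dt (g ∘ₗ f) = dt (f ∘ₗ g) := by
  unfold dt
  rw [LinearMap.baseChange_comp, LinearMap.baseChange_comp, ← LinearMap.comp_smul, ← LinearMap.smul_comp]
  exact det_one_sub_comm _ _

theorem dt_split (u e : M →ₗ[A] M) (he : e ∘ₗ e = e) (h : (LinearMap.id - e) ∘ₗ u ∘ₗ e = 0) :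
    dt u = dt (e ∘ₗ u ∘ₗ e) * dt ((LinearMap.id - e) ∘ₗ u ∘ₗ (LinearMap.id - e)) := by
  let φ : Module.End A M →+* Module.End A[X] (A[X] ⊗[A] M) := (Module.End.baseChangeHom A A[X] M).toRingHom
  have hd : ∀ f : Module.End A M, dt f = LinearMap.det (1 - (X : A[X]) • φ f) := fun f => rfl
  have he' : φ e * φ e = φ e := by rw [← map_mul]; exact congrArg φ he
  have h'' : φ ((1 - e : Module.End A M) * u * e) = 0 := by
    rw [show (1 - e : Module.End A M) * u * e = 0 from h, map_zero]
  rw [map_mul, map_mul, map_sub, map_one] at h''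
  have h' : (1 - φ e) * ((X : A[X]) • φ u) * φ e = 0 := by
    rw [mul_smul_comm, smul_mul_assoc, h'', smul_zero]
  have hs := det_one_sub_split ((X : A[X]) • φ u) (φ e) he' h'
  rw [mul_smul_comm, smul_mul_assoc, mul_smul_comm, smul_mul_assoc] at hs
  have e1 : φ (e ∘ₗ u ∘ₗ e) = φ e * φ u * φ e := by
    rw [show (e ∘ₗ u ∘ₗ e : Module.End A M) = e * u * e from rfl, map_mul, map_mul]
  have e2 : φ ((LinearMap.id - e) ∘ₗ u ∘ₗ (LinearMap.id - e)) = (1 - φ e) * φ u * (1 - φ e) := by
    rw [show ((LinearMap.id - e) ∘ₗ u ∘ₗ (LinearMap.id - e) : Module.End A M) = (1 - e) * u * (1 - e) from rfl,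
      map_mul, map_mul, map_sub, map_one]
  rw [hd, hd, hd, e1, e2]
  exact hs

theorem dt_of_subsingleton [Subsingleton M] (f : M →ₗ[A] M) : dt f = 1 := by
  have : f = 0 := LinearMap.ext fun x => Subsingleton.elim _ _
  have hz : ∀ z : A[X] ⊗[A] M, z = 0 := fun z => by
    induction z using TensorProduct.induction_on with
    | zero => rfl
    | tmul p m => rw [Subsingleton.elim m 0, TensorProduct.tmul_zero]
    | add x y hx hy => rw [hx, hy, add_zero]
  have : Subsingleton (A[X] ⊗[A] M) := ⟨fun x y => (hz x).trans (hz y).symm⟩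
  exact LinearMap.det_eq_one_of_subsingleton _

end Linear

section Finprod

variable {R : Type*} [CommMonoid R]

theorem finprod_subtype_shift (p q : ℤ → Prop) (hpq : ∀ i, p i ↔ q (i - 1)) (g : ℤ → R) :
    ∏ᶠ i : {i : ℤ // p i}, g (i.1 - 1) = ∏ᶠ i : {i : ℤ // q i}, g i.1 :=
  finprod_eq_of_bijective (fun i => (⟨i.1 - 1, (hpq i.1).1 i.2⟩ : {i : ℤ // q i}))
    ⟨fun a b hab => Subtype.ext (by simpa using congrArg Subtype.val hab),
      fun i => ⟨⟨i.1 + 1, (hpq _).2 (by simpa using i.2)⟩, Subtype.ext (by simp)⟩⟩ fun _ => rfl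

theorem finite_mulSupport_subtype (p : ℤ → Prop) (g : ℤ → R) (hg : g.mulSupport.Finite) :
    (fun i : {i : ℤ // p i} => g i.1).mulSupport.Finite :=
  (hg.preimage Subtype.val_injective.injOn).subset fun _ h => h

theorem finprod_parity_mul (a b : ℤ → R) (ha : a.mulSupport.Finite) (hb : b.mulSupport.Finite) (p : ℤ → Prop) :
    ∏ᶠ i : {i : ℤ // p i}, a i.1 * b i.1 =
      (∏ᶠ i : {i : ℤ // p i}, a i.1) * ∏ᶠ i : {i : ℤ // p i}, b i.1 :=
  finprod_mul_distrib (finite_mulSupport_subtype p a ha) (finite_mulSupport_subtype p b hb)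

theorem even_iff_odd_pred (i : ℤ) : Even i ↔ Odd (i - 1) := by simp [Int.odd_sub]
theorem odd_iff_even_pred (i : ℤ) : Odd i ↔ Even (i - 1) := by simp [Int.even_sub]
theorem even_iff_odd_succ (i : ℤ) : Even i ↔ Odd (i + 1) := by simp [Int.odd_add]
theorem odd_iff_even_succ (i : ℤ) : Odd i ↔ Even (i + 1) := by simp [Int.even_add]

theorem finite_mulSupport_shift (g : ℤ → R) (hg : g.mulSupport.Finite) (k : ℤ) :
    (fun i => g (i + k)).mulSupport.Finite :=
  (hg.preimage (add_left_injective k).injOn).subset fun _ h => h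

theorem finprod_telescope (ρ : ℤ → R) (hρ : ρ.mulSupport.Finite) :
    ∏ᶠ i : {i : ℤ // Even i}, ρ (i.1 - 1) * ρ i.1 = ∏ᶠ i : {i : ℤ // Odd i}, ρ (i.1 - 1) * ρ i.1 := by
  have h1 : (fun i => ρ (i - 1)).mulSupport.Finite := finite_mulSupport_shift ρ hρ (-1)
  rw [finprod_parity_mul (fun i => ρ (i - 1)) ρ h1 hρ, finprod_parity_mul (fun i => ρ (i - 1)) ρ h1 hρ,
    finprod_subtype_shift _ _ even_iff_odd_pred ρ, finprod_subtype_shift _ _ odd_iff_even_pred ρ, mul_comm]

end Finprod

variable {A : Type u} [CommRing A]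

theorem detOneSub_eq (M : ModuleCat.{u} A) (f : M ⟶ M) : SGA4h.detOneSub M f = dt f.hom := rfl

variable {K : CochainComplex (ModuleCat.{u} A) ℤ}

theorem finite_support_det (a b : ℤ) [K.IsStrictlyGE a] [K.IsStrictlyLE b]
    (hK : ∀ i : ℤ, Module.Finite A (K.X i) ∧ Module.Free A (K.X i)) (v : K ⟶ K) :
    (fun i => SGA4h.detOneSub (K.X i) (v.f i)).mulSupport.Finite := by
  refine (Set.finite_Icc a b).subset fun i hi => ?_
  by_contra hc
  refine hi ?_
  have := (hK i).1
  have := (hK i).2
  have hz : IsZero (K.X i) := by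
    rcases lt_or_ge i a with h | h
    · exact K.isZero_of_isStrictlyGE a i h
    · exact K.isZero_of_isStrictlyLE b i (not_le.1 fun h' => hc ⟨h, h'⟩)
  have := ModuleCat.subsingleton_of_isZero hz
  exact dt_of_subsingleton _

theorem detEven_eq_detOdd_of_homotopy (a b : ℤ) [K.IsStrictlyGE a] [K.IsStrictlyLE b]
    (hK : ∀ i : ℤ, Module.Finite A (K.X i) ∧ Module.Free A (K.X i)) (hom0 : Homotopy (𝟙 K) 0) (v : K ⟶ K) :
    SGA4h.detEven K v = SGA4h.detOdd K v := by
  have hfin := fun i => (hK i).1
  have hfree := fun i => (hK i).2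
  let d : ∀ i, K.X i →ₗ[A] K.X (i + 1) := fun i => (K.d i (i + 1)).hom
  let s : ∀ i, K.X (i + 1) →ₗ[A] K.X i := fun i => (hom0.hom (i + 1) i).hom
  have hid : ∀ i (x : K.X (i + 1)), d i (s i x) + s (i + 1) (d (i + 1) x) = x := fun i x => by
    have h := hom0.comm (i + 1)
    rw [dNext_eq (f := hom0.hom) (i' := i + 1 + 1) (show (ComplexShape.up ℤ).Rel _ _ from rfl),
      prevD_eq (f := hom0.hom) (j' := i) (show (ComplexShape.up ℤ).Rel _ _ from rfl)] at h
    have h2 := congrArg (fun m : K.X (i + 1) ⟶ K.X (i + 1) => m.hom x) h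
    simp only [HomologicalComplex.id_f, HomologicalComplex.zero_f, ModuleCat.hom_add, ModuleCat.hom_comp,
      LinearMap.add_apply, LinearMap.coe_comp, Function.comp_apply, ModuleCat.hom_id, LinearMap.id_apply,
      ModuleCat.hom_zero, LinearMap.zero_apply, add_zero] at h2
    exact (add_comm _ _).trans h2.symm
  have hdd : ∀ i (x : K.X i), d (i + 1) (d i x) = 0 := fun i x =>
    congrArg (fun m : K.X i ⟶ K.X (i + 1 + 1) => m.hom x) (K.d_comp_d i (i + 1) (i + 1 + 1))
  have hcomm : ∀ i (x : K.X i), d i ((v.f i).hom x) = (v.f (i + 1)).hom (d i x) := fun i x =>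
    congrArg (fun m : K.X i ⟶ K.X (i + 1) => m.hom x) (v.comm i (i + 1))
  have hdsd : ∀ i (x : K.X i), d i (s i (d i x)) = d i x := fun i x => by
    have h := hid i (d i x)
    rwa [hdd, map_zero, add_zero] at h
  let e : ∀ i, K.X (i + 1) →ₗ[A] K.X (i + 1) := fun i => d i ∘ₗ s i
  let ρ : ℤ → A[X] := fun i => dt (e i ∘ₗ (v.f (i + 1)).hom ∘ₗ e i)
  have hee : ∀ i, e i ∘ₗ e i = e i := fun i => LinearMap.ext fun x => hdsd i (s i x)
  have key : ∀ i, dt (v.f (i + 1)).hom = ρ i * ρ (i + 1) := fun i => by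
    have hsub : (LinearMap.id - e i : K.X (i + 1) →ₗ[A] K.X (i + 1)) = s (i + 1) ∘ₗ d (i + 1) :=
      LinearMap.ext fun x => sub_eq_iff_eq_add.2 ((add_comm _ _).trans (hid i x)).symm
    rw [dt_split (v.f (i + 1)).hom (e i) (hee i) (by
      refine LinearMap.ext fun x => ?_
      rw [hsub]
      simp only [e, LinearMap.coe_comp, Function.comp_apply, LinearMap.zero_apply]
      rw [← hcomm, hdd, map_zero])]
    congr 1
    rw [hsub, show (s (i + 1) ∘ₗ d (i + 1)) ∘ₗ (v.f (i + 1)).hom ∘ₗ s (i + 1) ∘ₗ d (i + 1) =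
      s (i + 1) ∘ₗ (d (i + 1) ∘ₗ (v.f (i + 1)).hom ∘ₗ s (i + 1) ∘ₗ d (i + 1)) from rfl, dt_comm]
    simp only [ρ]
    congr 1
    refine LinearMap.ext fun x => ?_
    simp only [e, LinearMap.coe_comp, Function.comp_apply]
    simp only [hdsd, ← hcomm]
    simp only [hcomm, hdsd]
  have hρ : ρ.mulSupport.Finite := by
    refine (Set.finite_Icc (a - 1) b).subset fun i hi => ?_
    by_contra hc
    refine hi ?_
    have hz : IsZero (K.X (i + 1)) := by
      rcases lt_or_ge (i + 1) a with h | h
      · exact K.isZero_of_isStrictlyGE a _ h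
      · refine K.isZero_of_isStrictlyLE b _ ?_
        have : ¬ i ≤ b := fun h' => hc ⟨by omega, h'⟩
        omega
    have := ModuleCat.subsingleton_of_isZero hz
    exact dt_of_subsingleton _
  have hD : ∀ j, SGA4h.detOneSub (K.X j) (v.f j) = ρ (j - 1) * ρ j := fun j => by
    obtain ⟨i, rfl⟩ : ∃ i, j = i + 1 := ⟨j - 1, by omega⟩
    rw [detOneSub_eq, key, add_sub_cancel_right]
  unfold SGA4h.detEven SGA4h.detOdd
  simp only [hD]
  exact finprod_telescope ρ hρ

end Groth.Agent.EtDet91
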