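import Groth.Agent.EtDet91.CharSeries
import Mathlib.Algebra.Homology.HomotopyCategory.Pretriangulated
import Mathlib.RingTheory.Finiteness.Prod
import Mathlib.LinearAlgebra.FreeModule.Basic

/-!
Quasi-isomorphism invariance of the characteristic series.
-/

set_option autoImplicit false
set_option linter.style.haveILetI false
universe u

open CategoryTheory CategoryTheory.Limits Polynomial
open CochainComplex.HomComplex CochainComplex

attribute [local instance] HasDerivedCategory.standard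

namespace Groth.Agent.EtDet91

variable {A : Type u} [CommRing A] {K K' : CochainComplex (ModuleCat.{u} A) ℤ}

theorem detOneSub_cone (f : K ⟶ K') {u : K ⟶ K} {u' : K' ⟶ K'} (H : Homotopy (f ≫ u') (u ≫ f)) (p : ℤ)
    [Module.Finite A (K.X (p + 1))] [Module.Free A (K.X (p + 1))]
    [Module.Finite A (K'.X p)] [Module.Free A (K'.X p)] :
    Module.Finite A ((mappingCone f).X p) ∧ Module.Free A ((mappingCone f).X p) ∧
      SGA4h.detOneSub ((mappingCone f).X p) ((mappingCone.mapOfHomotopy H).f p) =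
        SGA4h.detOneSub (K.X (p + 1)) (u.f (p + 1)) * SGA4h.detOneSub (K'.X p) (u'.f p) := by
  let C := (mappingCone f).X p
  let iK : K.X (p + 1) ⟶ C := (mappingCone.inl f).v (p + 1) p (by omega)
  let pK : C ⟶ K.X (p + 1) := (mappingCone.fst f).1.v p (p + 1) rfl
  let iL : K'.X p ⟶ C := (mappingCone.inr f).f p
  let pL : C ⟶ K'.X p := (mappingCone.snd f).v p p (add_zero p)
  let U : C ⟶ C := (mappingCone.mapOfHomotopy H).f p
  have h11 : iK ≫ pK = 𝟙 _ := mappingCone.inl_v_fst_v f _ _ _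
  have h22 : iL ≫ pL = 𝟙 _ := mappingCone.inr_f_snd_v f p
  have h12 : iK ≫ pL = 0 := mappingCone.inl_v_snd_v f _ _ _
  have h21 : iL ≫ pK = 0 := mappingCone.inr_f_fst_v f p _ _
  have hsum : pK ≫ iK + pL ≫ iL = 𝟙 C := mappingCone.id_X f p (p + 1) rfl
  have hiL : iL ≫ U = u'.f p ≫ iL :=
    congrArg (fun m : K' ⟶ mappingCone f => m.f p) (mappingCone.triangleMapOfHomotopy_comm₂ H)
  have hiK : iK ≫ U ≫ pK = u.f (p + 1) := by
    simp only [iK, U, pK, mappingCone.mapOfHomotopy]
    simp [mappingCone.desc_f _ _ _ _ p (p + 1) rfl]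
  let toP : C →ₗ[A] (K.X (p + 1) × K'.X p) := pK.hom.prod pL.hom
  let ofP : (K.X (p + 1) × K'.X p) →ₗ[A] C := iK.hom.coprod iL.hom
  have e1 : ∀ x, iK.hom (pK.hom x) + iL.hom (pL.hom x) = x := fun x =>
    congrArg (fun m : C ⟶ C => m.hom x) hsum
  have e11 : ∀ x, pK.hom (iK.hom x) = x := fun x => congrArg (fun m : K.X (p + 1) ⟶ K.X (p + 1) => m.hom x) h11
  have e22 : ∀ x, pL.hom (iL.hom x) = x := fun x => congrArg (fun m : K'.X p ⟶ K'.X p => m.hom x) h22
  have e12 : ∀ x, pL.hom (iK.hom x) = 0 := fun x => congrArg (fun m : K.X (p + 1) ⟶ K'.X p => m.hom x) h12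
  have e21 : ∀ x, pK.hom (iL.hom x) = 0 := fun x => congrArg (fun m : K'.X p ⟶ K.X (p + 1) => m.hom x) h21
  have eL : ∀ x, U.hom (iL.hom x) = iL.hom ((u'.f p).hom x) := fun x =>
    congrArg (fun m : K'.X p ⟶ C => m.hom x) hiL
  have eK : ∀ x, pK.hom (U.hom (iK.hom x)) = (u.f (p + 1)).hom x := fun x =>
    congrArg (fun m : K.X (p + 1) ⟶ K.X (p + 1) => m.hom x) hiK
  let E : C ≃ₗ[A] (K.X (p + 1) × K'.X p) := LinearEquiv.ofLinear toP ofP
    (LinearMap.ext fun z => Prod.ext
      (by simp [toP, ofP, e11, e21]) (by simp [toP, ofP, e22, e12]))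
    (LinearMap.ext fun x => by simpa [toP, ofP] using e1 x)
  have hfin : Module.Finite A C := Module.Finite.equiv E.symm
  have hfree : Module.Free A C := Module.Free.of_equiv E.symm
  refine ⟨hfin, hfree, ?_⟩
  change dt U.hom = dt (u.f (p + 1)).hom * dt (u'.f p).hom
  have hid : (LinearMap.id - iL.hom ∘ₗ pL.hom : C →ₗ[A] C) = iK.hom ∘ₗ pK.hom :=
    LinearMap.ext fun x => sub_eq_iff_eq_add.2 (e1 x).symm
  rw [dt_split U.hom (iL.hom ∘ₗ pL.hom) (LinearMap.ext fun x => congrArg iL.hom (e22 _)) (by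
    rw [hid]
    exact LinearMap.ext fun x => by simp [eL, e21]), hid, mul_comm]
  congr 1
  · rw [show (iK.hom ∘ₗ pK.hom) ∘ₗ U.hom ∘ₗ iK.hom ∘ₗ pK.hom =
      iK.hom ∘ₗ (pK.hom ∘ₗ U.hom ∘ₗ iK.hom ∘ₗ pK.hom) from rfl, dt_comm]
    congr 1
    exact LinearMap.ext fun x => by simp [e11, eK]
  · rw [show (iL.hom ∘ₗ pL.hom) ∘ₗ U.hom ∘ₗ iL.hom ∘ₗ pL.hom =
      iL.hom ∘ₗ (pL.hom ∘ₗ U.hom ∘ₗ iL.hom ∘ₗ pL.hom) from rfl, dt_comm]
    congr 1
    exact LinearMap.ext fun x => by simp [e22, eL]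

theorem charSeries_invariant (a b : ℤ) [K.IsStrictlyGE a] [K.IsStrictlyLE b]
    [K'.IsStrictlyGE a] [K'.IsStrictlyLE b]
    (hK : ∀ i : ℤ, Module.Finite A (K.X i) ∧ Module.Free A (K.X i))
    (hK' : ∀ i : ℤ, Module.Finite A (K'.X i) ∧ Module.Free A (K'.X i))
    (u : K ⟶ K) (u' : K' ⟶ K') (φ : DerivedCategory.Q.obj K ≅ DerivedCategory.Q.obj K')
    (hφ : DerivedCategory.Q.map u ≫ φ.hom = φ.hom ≫ DerivedCategory.Q.map u') :
    SGA4h.detEven K u * SGA4h.detOdd K' u' = SGA4h.detOdd K u * SGA4h.detEven K' u' := by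
  have hproj : ∀ {L : CochainComplex (ModuleCat.{u} A) ℤ},
      (∀ i : ℤ, Module.Finite A (L.X i) ∧ Module.Free A (L.X i)) → ∀ n, Projective (L.X n) := fun {L} h n => by
    have := (h n).2
    exact ModuleCat.projective_of_categoryTheory_projective (L.X n)
  have := hproj hK
  have := CochainComplex.isKProjective_of_projective K b
  let ι := DerivedCategory.quotientCompQhIso (ModuleCat.{u} A)
  obtain ⟨g, hg⟩ := (CochainComplex.IsKProjective.Qh_map_bijective K
    ((HomotopyCategory.quotient _ _).obj K')).surjective (ι.hom.app K ≫ φ.hom ≫ ι.inv.app K')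
  obtain ⟨f, rfl⟩ := (HomotopyCategory.quotient _ _).map_surjective g
  have hQ : DerivedCategory.Q.map f = φ.hom := by
    have := ι.hom.naturality f
    rw [Functor.comp_map, hg] at this
    simp only [Category.assoc] at this
    rw [Iso.inv_hom_id_app] at this
    erw [Category.comp_id] at this
    exact ((cancel_epi _).mp this).symm
  have hq : QuasiIso f := by
    rw [← DerivedCategory.isIso_Q_map_iff_quasiIso, hQ]
    infer_instance
  have hh : (HomotopyCategory.quotient _ _).map (f ≫ u') = (HomotopyCategory.quotient _ _).map (u ≫ f) := by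
    apply (CochainComplex.IsKProjective.Qh_map_bijective K _).injective
    have hn : ∀ {L L' : CochainComplex (ModuleCat.{u} A) ℤ} (m : L ⟶ L'),
        DerivedCategory.Qh.map ((HomotopyCategory.quotient _ _).map m) =
          ι.hom.app L ≫ DerivedCategory.Q.map m ≫ ι.inv.app L' := fun {L L'} m => by
      refine (cancel_mono (ι.hom.app L')).1 ?_
      simp only [Category.assoc]
      rw [Iso.inv_hom_id_app, Category.comp_id]
      exact ι.hom.naturality m
    rw [hn, hn, Functor.map_comp, Functor.map_comp, hQ, hφ]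
  let H : Homotopy (f ≫ u') (u ≫ f) := HomotopyCategory.homotopyOfEq _ _ hh
  let C := mappingCone f
  have hzero : ∀ p, p < a - 1 ∨ b < p → IsZero (C.X p) := fun p hp => by
    rw [mappingCone.isZero_X_iff]
    rcases hp with hp | hp
    · exact ⟨K.isZero_of_isStrictlyGE a _ (by omega), K'.isZero_of_isStrictlyGE a _ (by omega)⟩
    · exact ⟨K.isZero_of_isStrictlyLE b _ (by omega), K'.isZero_of_isStrictlyLE b _ (by omega)⟩
  have hCge : C.IsStrictlyGE (a - 1) := (CochainComplex.isStrictlyGE_iff C _).2 fun i hi => hzero i (Or.inl hi)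
  have hCle : C.IsStrictlyLE b := (CochainComplex.isStrictlyLE_iff C _).2 fun i hi => hzero i (Or.inr hi)
  have hstep : ∀ p, Module.Finite A (C.X p) ∧ Module.Free A (C.X p) ∧
      SGA4h.detOneSub (C.X p) ((mappingCone.mapOfHomotopy H).f p) =
        SGA4h.detOneSub (K.X (p + 1)) (u.f (p + 1)) * SGA4h.detOneSub (K'.X p) (u'.f p) := fun p =>
    haveI := (hK (p + 1)).1
    haveI := (hK (p + 1)).2
    haveI := (hK' p).1
    haveI := (hK' p).2
    detOneSub_cone f H p
  have hC : ∀ i : ℤ, Module.Finite A (C.X i) ∧ Module.Free A (C.X i) := fun i => ⟨(hstep i).1, (hstep i).2.1⟩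
  have := hproj hC
  have := CochainComplex.isKProjective_of_projective C b
  have hacy : C.Acyclic := (Desc45.quasiIso_iff_cone f).1 hq
  have hCeq := detEven_eq_detOdd_of_homotopy (a - 1) b hC
    (CochainComplex.IsKProjective.homotopyZero (𝟙 C) hacy) (mappingCone.mapOfHomotopy H)
  unfold SGA4h.detEven SGA4h.detOdd at hCeq ⊢
  simp only [fun p => (hstep p).2.2] at hCeq
  let D : ℤ → A[X] := fun i => SGA4h.detOneSub (K.X i) (u.f i)
  let D' : ℤ → A[X] := fun i => SGA4h.detOneSub (K'.X i) (u'.f i)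
  have hD : D.mulSupport.Finite := finite_support_det a b hK u
  have hD' : D'.mulSupport.Finite := finite_support_det a b hK' u'
  have hD1 : (fun i => D (i + 1)).mulSupport.Finite := finite_mulSupport_shift D hD 1
  have s1 : ∏ᶠ i : {i : ℤ // Even i}, D (i.1 + 1) = ∏ᶠ i : {i : ℤ // Odd i}, D i.1 := by
    have := finprod_subtype_shift Odd Even odd_iff_even_pred (fun i => D (i + 1))
    simp only [sub_add_cancel] at this
    exact this.symm
  have s2 : ∏ᶠ i : {i : ℤ // Odd i}, D (i.1 + 1) = ∏ᶠ i : {i : ℤ // Even i}, D i.1 := by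
    have := finprod_subtype_shift Even Odd even_iff_odd_pred (fun i => D (i + 1))
    simp only [sub_add_cancel] at this
    exact this.symm
  have h := ((finprod_parity_mul (fun i => D (i + 1)) D' hD1 hD' Even).symm.trans hCeq).trans
    (finprod_parity_mul (fun i => D (i + 1)) D' hD1 hD' Odd)
  rw [s1, s2] at h
  exact h.symm

end Groth.Agent.EtDet91
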